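import Mathlib.GroupTheory.QuotientGroup.Basic
import Mathlib.GroupTheory.Index
import Mathlib.Data.ZMod.QuotientGroup
import Mathlib.Algebra.BigOperators.Finsupp.Basic
import Mathlib.Data.Finsupp.Fintype
import Mathlib.Data.Finsupp.SMul

/-!
# Counting the torsion of a cokernel
-/

namespace Groth.ModelsGraphs.OpenCurve

/-- The order of a group from a homomorphism with known kernel and image. -/
theorem card_eq_mul {A B E : Type*} [AddCommGroup A] [AddCommGroup B] [AddCommGroup E] (f : A →+ B)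
    (g : E →+ A) (hg : Function.Injective g) (hgf : g.range = f.ker) :
    Nat.card A = Nat.card E * Nat.card f.range := by
  rw [AddSubgroup.card_eq_card_quotient_mul_card_addSubgroup f.ker, mul_comm,
    Nat.card_congr (QuotientAddGroup.quotientKerEquivRange f).toEquiv, ← hgf,
    ← Nat.card_congr (AddMonoidHom.ofInjective hg).toEquiv]

variable {M C : Type*} [AddCommGroup M] [AddCommGroup C]

/-- The kernel of `n •`. -/
abbrev Tor (n : ℕ) (C : Type*) [AddCommGroup C] : AddSubgroup C := (nsmulAddMonoidHom n : C →+ C).ker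

/-- The cokernel of `n •`. -/
abbrev ModN (n : ℕ) (C : Type*) [AddCommGroup C] : Type _ := C ⧸ (nsmulAddMonoidHom n : C →+ C).range

theorem mem_tor {n : ℕ} {c : C} : c ∈ Tor n C ↔ n • c = 0 := Iff.rfl

theorem mk_eq_zero_iff {n : ℕ} (c : C) : (c : ModN n C) = 0 ↔ ∃ d, n • d = c :=
  (QuotientAddGroup.eq_zero_iff c).trans AddMonoidHom.mem_range

/-- If `M` has no `n`-torsion and `M → C / n` is onto, the orders of the kernel modulo `n` and of the
`n`-torsion of the cokernel are determined by `M / n`, `C[n]` and `C / n`. -/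
theorem card_ker_mul_card_coker (ψ : M →+ C) {n : ℕ} (htf : ∀ m : M, n • m = 0 → m = 0)
    (hsurj : ∀ c : C, ∃ (m : M) (d : C), c = ψ m + n • d) :
    Nat.card (ModN n ψ.ker) * Nat.card (Tor n (C ⧸ ψ.range)) * Nat.card (ModN n C) =
      Nat.card (Tor n C) * Nat.card (ModN n M) := by
  let P₀ : AddSubgroup (M × C) :=
    (ψ.comp (AddMonoidHom.fst M C) - (nsmulAddMonoidHom n).comp (AddMonoidHom.snd M C)).ker
  have hP₀ : ∀ p : M × C, p ∈ P₀ ↔ ψ p.1 = n • p.2 := fun p => sub_eq_zero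
  let ν : M →+ P₀ := AddMonoidHom.mk' (fun e => ⟨(n • e, ψ e), (hP₀ _).2 (map_nsmul ψ n e)⟩)
    fun a b => Subtype.ext (Prod.ext (nsmul_add a b n) (map_add ψ a b))
  let P := P₀ ⧸ ν.range
  have hν : ∀ (p : P₀), (p : P) = 0 ↔ ∃ e : M, n • e = p.1.1 ∧ ψ e = p.1.2 := fun p => by
    refine (QuotientAddGroup.eq_zero_iff p).trans ⟨?_, ?_⟩
    · rintro ⟨e, rfl⟩
      exact ⟨e, rfl, rfl⟩
    · rintro ⟨e, h1, h2⟩
      exact ⟨e, Subtype.ext (Prod.ext h1 h2)⟩
  -- projection to the cokernel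
  let α₀ : P₀ →+ Tor n (C ⧸ ψ.range) :=
    AddMonoidHom.mk' (fun p => ⟨(p.1.2 : C ⧸ ψ.range), mem_tor.2 (by
      rw [← QuotientAddGroup.mk_nsmul, ← (hP₀ _).1 p.2]
      exact (QuotientAddGroup.eq_zero_iff _).2 ⟨_, rfl⟩)⟩)
      fun a b => Subtype.ext rfl
  let α : P →+ Tor n (C ⧸ ψ.range) := QuotientAddGroup.lift ν.range α₀ (by
    rintro _ ⟨e, rfl⟩
    exact Subtype.ext ((QuotientAddGroup.eq_zero_iff (ψ e)).2 ⟨e, rfl⟩))
  have hα : Function.Surjective α := by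
    rintro ⟨c, hc⟩
    obtain ⟨c, rfl⟩ := QuotientAddGroup.mk_surjective c
    have h' : ((n • c : C) : C ⧸ ψ.range) = 0 := hc
    obtain ⟨m, hm⟩ := (QuotientAddGroup.eq_zero_iff _).1 h'
    exact ⟨((⟨(m, c), (hP₀ _).2 hm⟩ : P₀) : P), rfl⟩
  let ι₁₀ : ψ.ker →+ P := AddMonoidHom.mk'
    (fun m => ((⟨(m.1, 0), (hP₀ _).2 (by rw [smul_zero]; exact m.2)⟩ : P₀) : P))
    fun a b => by
      rw [← QuotientAddGroup.mk_add]
      congr 1
      exact Subtype.ext (Prod.ext rfl (add_zero 0).symm)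
  let ι₁ : ModN n ψ.ker →+ P := QuotientAddGroup.lift _ ι₁₀ (by
    rintro _ ⟨e, rfl⟩
    exact (hν _).2 ⟨e.1, rfl, e.2⟩)
  have hι₁ : Function.Injective ι₁ := by
    refine (injective_iff_map_eq_zero ι₁).2 fun x hx => ?_
    obtain ⟨m, rfl⟩ := QuotientAddGroup.mk_surjective x
    obtain ⟨e, h1, h2⟩ := (hν _).1 hx
    exact (mk_eq_zero_iff m).2 ⟨⟨e, h2⟩, Subtype.ext h1⟩
  have hι₁α : ι₁.range = α.ker := by
    refine le_antisymm ?_ ?_
    · rintro _ ⟨x, rfl⟩
      obtain ⟨m, rfl⟩ := QuotientAddGroup.mk_surjective x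
      exact Subtype.ext (QuotientAddGroup.mk_zero _)
    · intro x hx
      obtain ⟨⟨⟨m, c⟩, hp⟩, rfl⟩ := QuotientAddGroup.mk_surjective x
      have hc : ((c : C) : C ⧸ ψ.range) = 0 := congrArg Subtype.val hx
      obtain ⟨e, he⟩ := (QuotientAddGroup.eq_zero_iff _).1 hc
      have hp' := (hP₀ _).1 hp
      refine ⟨((⟨m - n • e, by
        show ψ (m - n • e) = 0
        rw [map_sub, map_nsmul, he, hp', sub_self]⟩ : ψ.ker) : ModN n ψ.ker), ?_⟩
      refine sub_eq_zero.1 ((hν _).2 ⟨-e, ?_, ?_⟩)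
      · show n • -e = (m - n • e) - m
        rw [smul_neg, sub_sub, add_comm, ← sub_sub, sub_self, zero_sub]
      · show ψ (-e) = 0 - c
        rw [map_neg, he, zero_sub]
  -- projection to `M / n`
  let β₀ : P₀ →+ ModN n M := (QuotientAddGroup.mk' _).comp ((AddMonoidHom.fst M C).comp P₀.subtype)
  let β : P →+ ModN n M := QuotientAddGroup.lift ν.range β₀ (by
    rintro _ ⟨e, rfl⟩
    exact (mk_eq_zero_iff _).2 ⟨e, rfl⟩)
  let χ : ModN n M →+ ModN n C := QuotientAddGroup.lift _ ((QuotientAddGroup.mk' _).comp ψ) (by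
    rintro _ ⟨e, rfl⟩
    exact (mk_eq_zero_iff _).2 ⟨ψ e, (map_nsmul ψ n e).symm⟩)
  have hχ : Function.Surjective χ := fun x => by
    obtain ⟨c, rfl⟩ := QuotientAddGroup.mk_surjective x
    obtain ⟨m, d, rfl⟩ := hsurj c
    refine ⟨(m : ModN n M), ?_⟩
    show ((ψ m : C) : ModN n C) = _
    rw [QuotientAddGroup.mk_add, (mk_eq_zero_iff (n • d)).2 ⟨d, rfl⟩, add_zero]
  have hβ : β.range = χ.ker := by
    refine le_antisymm ?_ ?_
    · rintro _ ⟨x, rfl⟩
      obtain ⟨⟨⟨m, c⟩, hp⟩, rfl⟩ := QuotientAddGroup.mk_surjective x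
      exact (mk_eq_zero_iff _).2 ⟨c, ((hP₀ _).1 hp).symm⟩
    · intro x hx
      obtain ⟨m, rfl⟩ := QuotientAddGroup.mk_surjective x
      obtain ⟨d, hd⟩ := (mk_eq_zero_iff _).1 hx
      exact ⟨((⟨(m, d), (hP₀ _).2 hd.symm⟩ : P₀) : P), rfl⟩
  let ι₂ : Tor n C →+ P := AddMonoidHom.mk'
    (fun c => ((⟨(0, c.1), (hP₀ _).2 (by rw [map_zero]; exact c.2.symm)⟩ : P₀) : P))
    fun a b => by
      rw [← QuotientAddGroup.mk_add]
      congr 1
      exact Subtype.ext (Prod.ext (add_zero 0).symm rfl)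
  have hι₂ : Function.Injective ι₂ := by
    refine (injective_iff_map_eq_zero ι₂).2 fun c hc => ?_
    obtain ⟨e, h1, h2⟩ := (hν _).1 hc
    obtain rfl : e = 0 := htf e h1
    exact Subtype.ext (h2.symm.trans (map_zero ψ))
  have hι₂β : ι₂.range = β.ker := by
    refine le_antisymm ?_ ?_
    · rintro _ ⟨c, rfl⟩
      exact (mk_eq_zero_iff _).2 ⟨0, smul_zero n⟩
    · intro x hx
      obtain ⟨⟨⟨m, c⟩, hp⟩, rfl⟩ := QuotientAddGroup.mk_surjective x
      obtain ⟨e, he⟩ := (mk_eq_zero_iff _).1 hx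
      have he' : n • e = m := he
      have hp' := (hP₀ _).1 hp
      refine ⟨⟨c - ψ e, mem_tor.2 ?_⟩, ?_⟩
      · rw [smul_sub, ← hp', ← map_nsmul, he', sub_self]
      refine sub_eq_zero.1 ((hν _).2 ⟨-e, ?_, ?_⟩)
      · show n • -e = 0 - m
        rw [smul_neg, he', zero_sub]
      · show ψ (-e) = (c - ψ e) - c
        rw [map_neg, sub_sub, add_comm, ← sub_sub, sub_self, zero_sub]
  have h1 := card_eq_mul α ι₁ hι₁ hι₁α
  have h2 := card_eq_mul β ι₂ hι₂ hι₂β
  have h3 := card_eq_mul χ χ.ker.subtype Subtype.val_injective (AddSubgroup.range_subtype _)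
  rw [AddMonoidHom.range_eq_top.2 hα, Nat.card_congr AddSubgroup.topEquiv.toEquiv] at h1
  rw [AddMonoidHom.range_eq_top.2 hχ, Nat.card_congr AddSubgroup.topEquiv.toEquiv] at h3
  rw [hβ] at h2
  rw [← h1, h2, h3, mul_assoc]

/-- `(ι →₀ ℤ) / n` has `n ^ |ι|` elements. -/
theorem card_modN_finsupp (ι : Type*) [Finite ι] (n : ℕ) :
    Nat.card (ModN n (ι →₀ ℤ)) = n ^ Nat.card ι := by
  let φ : (ι →₀ ℤ) →+ (ι → ZMod n) :=
    (AddMonoidHom.compLeft (Int.castAddHom (ZMod n)) ι).comp Finsupp.coeFnAddHom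
  have hφ : Function.Surjective φ := fun g => by
    refine ⟨Finsupp.equivFunOnFinite.symm fun i => (ZMod.intCast_surjective (g i)).choose,
      funext fun i => ?_⟩
    exact (ZMod.intCast_surjective (g i)).choose_spec
  have hk : φ.ker = (nsmulAddMonoidHom n : (ι →₀ ℤ) →+ _).range := by
    ext x
    refine ⟨fun hx => ?_, ?_⟩
    · have hd : ∀ i, (n : ℤ) ∣ x i := fun i =>
        (ZMod.intCast_zmod_eq_zero_iff_dvd (x i) n).1 (congrFun hx i)
      refine ⟨Finsupp.equivFunOnFinite.symm fun i => (hd i).choose, Finsupp.ext fun i => ?_⟩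
      show ((n • _ : ι →₀ ℤ)) i = _
      rw [Finsupp.smul_apply, nsmul_eq_mul]
      exact (hd i).choose_spec.symm
    · rintro ⟨y, rfl⟩
      funext i
      show ((n • y) i : ZMod n) = 0
      rw [Finsupp.smul_apply, nsmul_eq_mul, Int.cast_mul, Int.cast_natCast, ZMod.natCast_self, zero_mul]
  rw [Nat.card_congr ((QuotientAddGroup.quotientAddEquivOfEq hk.symm).trans
    (QuotientAddGroup.quotientKerEquivOfSurjective φ hφ)).toEquiv, Nat.card_fun, Nat.card_zmod]

end Groth.ModelsGraphs.OpenCurve
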