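import Groth.Agent.CurveBridge.TensorNumerics
import Groth.Agent.ZetaAn.CurvePic
import Groth.Agent.PicField.PicDegree
import Groth.Agent.ModelsGraphs.OpenCurve.GroupCount
import Groth.Agent.S0234
import Mathlib

/-!
# Divisor classes of a curve and of its open subsets
-/

set_option autoImplicit false
set_option linter.unusedSectionVars false
set_option linter.style.haveILetI false
set_option backward.isDefEq.respectTransparency false
set_option backward.isDefEq.respectTransparency.types false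

universe u

open CategoryTheory AlgebraicGeometry Opposite TopologicalSpace WithZero
open Groth.CurveBridge
open Groth.PicAux (Gen res resX app_res)
open Groth.Abvar.PicCalc (cls pull pull_cls nonempty_iso_iff nonempty_iso_structure_iff)
open scoped Groth.Abvar.PicCalc

namespace Groth.ModelsGraphs.OpenCurve

set_option maxHeartbeats 800000

variable {k : Type u} [Field k] {X : Scheme.{u}} [X.Over (Spec (CommRingCat.of k))] [IsIntegral X]
  [IsProper (X ↘ Spec (CommRingCat.of k))] (h : IsRegCurve X)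
include h

/-- A closed point, as soon as it is not the generic one. -/
theorem isClosed_of_ne {y : X} (hy : y ≠ genericPoint X) : IsClosed ({y} : Set X) :=
  (isClosed_singleton_iff X h.dim y).mpr hy

theorem exists_cls (D : FunFld.Divisor k X.functionField) :
    ∃ c : Additive (PicLoc.PicSet X), ∀ (L : X.Modules) (hL : PicF.IsInvertible L) (φ : L ⟶ constK X),
      IsDivEmb h φ D → c = Additive.ofMul (cls hL) := by
  obtain ⟨L₀, φ₀, _, _, _, hL₀, -, hm, hD⟩ := exists_invertible_embedding (k := k) h D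
  refine ⟨Additive.ofMul (cls hL₀), fun L hL φ hφ => congrArg Additive.ofMul ?_⟩
  exact (nonempty_iso_iff hL₀ hL).1 (nonempty_iso_of_divEmb h hL₀ hL ⟨hm, hD⟩ hφ)

/-- The class of a divisor. -/
noncomputable def cl : FunFld.Divisor k X.functionField →+ Additive (PicLoc.PicSet X) :=
  AddMonoidHom.mk' (fun D => (exists_cls h D).choose) fun D E => by
    obtain ⟨L, φ, _, _, _, hL, -, hm, hD⟩ := exists_invertible_embedding (k := k) h D
    obtain ⟨M, ψ, _, _, _, hM, -, hm', hE⟩ := exists_invertible_embedding (k := k) h E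
    obtain ⟨χ, hχ⟩ := exists_divEmb_tensor h hL hM (φ := φ) ⟨hm, hD⟩ (ψ := ψ) ⟨hm', hE⟩
    rw [(exists_cls h D).choose_spec L hL φ ⟨hm, hD⟩, (exists_cls h E).choose_spec M hM ψ ⟨hm', hE⟩,
      (exists_cls h (D + E)).choose_spec _ (Groth.Abvar.PicCalc.isInvertible_tensorMod hL hM) χ hχ,
      Groth.Abvar.PicCalc.cls_tensorMod hL hM]
    rfl

theorem cl_eq {L : X.Modules} (hL : PicF.IsInvertible L) {φ : L ⟶ constK X}
    {D : FunFld.Divisor k X.functionField} (hφ : IsDivEmb h φ D) :
    cl h D = Additive.ofMul (cls hL) :=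
  (exists_cls h D).choose_spec L hL φ hφ

theorem exists_emb (D : FunFld.Divisor k X.functionField) :
    ∃ (L : X.Modules) (hL : PicF.IsInvertible L) (φ : L ⟶ constK X),
      IsDivEmb h φ D ∧ cl h D = Additive.ofMul (cls hL) := by
  obtain ⟨L, φ, _, _, _, hL, -, hm, hD⟩ := exists_invertible_embedding (k := k) h D
  exact ⟨L, hL, φ, ⟨hm, hD⟩, cl_eq h hL ⟨hm, hD⟩⟩

/-- A divisor vanishing on an open gives a generator there. -/
theorem exists_gen_of_div {L : X.Modules} (hL : PicF.IsInvertible L) {φ : L ⟶ constK X}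
    {D : FunFld.Divisor k X.functionField} (hφ : IsDivEmb h φ D) {U : X.Opens}
    (hU : genericPoint X ∈ U) (hD : ∀ y : Pt X, y.1 ∈ U → D (placeAt (k := k) h y) = 0) :
    ∃ s : Γ(L, U), Gen L U s := by
  haveI := hφ.1
  obtain ⟨s, hs⟩ := exists_section_of_inStalk φ U 1 fun y hy => by
    by_cases hy' : y = genericPoint X
    · exact hy' ▸ inStalk_generic φ hL 1
    · refine (hφ.2 ⟨y, isClosed_of_ne h hy'⟩ 1).2 ?_
      rw [map_one, hD _ hy, exp_zero]
  choose V e hxV he using fun y : U => (Groth.PicAux.isInvertible_iff_exists_gen L).1 hL y.1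
  refine ⟨s, Gen.of_cover (fun y => U ⊓ V y) (fun _ => inf_le_left)
    (fun y hy => Opens.mem_iSup.2 ⟨⟨y, hy⟩, hy, hxV _⟩) fun a => ?_⟩
  have hW : genericPoint X ∈ U ⊓ V a := ⟨hU, generic_mem _ (hxV a)⟩
  have hew := (he a).res (inf_le_right : U ⊓ V a ≤ V a)
  have hw0 := kv_gen_ne_zero φ hW hew
  obtain ⟨r, hru, hr⟩ := Groth.ZetaAn.exists_unit_section (k := k) h hW
    (inv_ne_zero hw0) fun y hy => by
      rw [map_inv₀]
      erw [Groth.ZetaAn.val_gen h φ hφ.2 hew y hy]
      rw [hD y hy.1, exp_zero, inv_one]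
  have key : res L (inf_le_left : U ⊓ V a ≤ U) s = r • res L inf_le_right (e a) := by
    refine app_injective φ _ (kv_injective hW ?_)
    rw [app_res, kv_res, hs, Scheme.Modules.Hom.app_smul, kv_smul, hr]
    exact (inv_mul_cancel₀ hw0).symm
  rw [key]
  exact hew.smul_unit hru

/-- A generator on an open gives a function cancelling the divisor there. -/
theorem exists_div_of_gen {L : X.Modules} {φ : L ⟶ constK X}
    {D : FunFld.Divisor k X.functionField} (hφ : IsDivEmb h φ D) {U : X.Opens}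
    (hU : genericPoint X ∈ U) {s : Γ(L, U)} (hs : Gen L U s) :
    ∃ μ : X.functionField, μ ≠ 0 ∧ ∀ y : Pt X, y.1 ∈ U →
      D (placeAt (k := k) h y) + (placeAt (k := k) h y).ord μ = 0 := by
  haveI := hφ.1
  refine ⟨kv hU (φ.app U s), kv_gen_ne_zero φ hU hs, fun y hy => ?_⟩
  rw [Groth.FunFld1.ord_eq_of_val_eq _ (Groth.ZetaAn.val_gen h φ hφ.2 hs y hy)]
  exact add_neg_cancel _

theorem div_apply (μ : X.functionField) (P : FunFld.Place k X.functionField) :
    FunFld.div k μ P = P.ord μ := (isFF k X h.dim).div_apply μ P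

theorem cl_add_div (D : FunFld.Divisor k X.functionField) {μ : X.functionField} (hμ : μ ≠ 0) :
    cl h (D + FunFld.div k μ) = cl h D := by
  obtain ⟨L, hL, φ, hφ, hc⟩ := exists_emb h D
  obtain ⟨ψ, hψ⟩ := exists_divEmb_add_div h hφ hμ
  rw [cl_eq h hL hψ, hc]

/-- The classes with trivial restriction to an open. -/
theorem pull_cl_eq_one_iff (D : FunFld.Divisor k X.functionField) {U : X.Opens}
    (hU : genericPoint X ∈ U) :
    pull U.ι (cl h D).toMul = 1 ↔ ∃ μ : X.functionField, μ ≠ 0 ∧ ∀ y : Pt X, y.1 ∈ U →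
      D (placeAt (k := k) h y) + (placeAt (k := k) h y).ord μ = 0 := by
  obtain ⟨L, hL, φ, hφ, hc⟩ := exists_emb h D
  constructor
  · intro he
    rw [hc, toMul_ofMul, pull_cls, ← nonempty_iso_structure_iff] at he
    obtain ⟨s, hs⟩ := (Groth.PicAux.nonempty_restrict_iso_iff U).1
      (he.map fun e => (Scheme.Modules.restrictFunctorIsoPullback U.ι).app L ≪≫ e)
    exact exists_div_of_gen h hφ hU hs
  · rintro ⟨μ, hμ, h0⟩
    obtain ⟨ψ, hψ⟩ := exists_divEmb_add_div h hφ hμ
    obtain ⟨e⟩ := (Groth.PicAux.nonempty_restrict_iso_iff U).2 (exists_gen_of_div h hL hψ hU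
      fun y hy => by rw [Finsupp.add_apply, div_apply h]; exact h0 y hy)
    rw [hc, toMul_ofMul, pull_cls, ← nonempty_iso_structure_iff]
    exact ⟨((Scheme.Modules.restrictFunctorIsoPullback U.ι).app L).symm ≪≫ e⟩

theorem cl_eq_zero_iff (D : FunFld.Divisor k X.functionField) :
    cl h D = 0 ↔ ∃ μ : X.functionField, μ ≠ 0 ∧ D = FunFld.div k μ := by
  obtain ⟨L, hL, φ, hφ, hc⟩ := exists_emb h D
  constructor
  · intro he
    have he' : cls hL = 1 := congrArg Additive.toMul (hc.symm.trans he)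
    obtain ⟨s, hs⟩ := Groth.PicAux.nonempty_iso_structure_iff.1 ((nonempty_iso_structure_iff hL).2 he')
    obtain ⟨μ, hμ, h0⟩ := exists_div_of_gen h hφ (U := ⊤) trivial hs
    refine ⟨μ⁻¹, inv_ne_zero hμ, Finsupp.ext fun P => ?_⟩
    obtain ⟨y, rfl⟩ := placeAt_surjective (k := k) h P
    rw [div_apply h, Groth.FunFld1.ord_inv]
    exact eq_neg_of_add_eq_zero_left (h0 y trivial)
  · rintro ⟨μ, hμ, rfl⟩
    have := cl_add_div (k := k) h 0 hμ
    rwa [zero_add, map_zero] at this

variable (k) in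
include k in
/-- Restriction to an open is onto on classes. -/
theorem pull_surjective {U : X.Opens} (hU : genericPoint X ∈ U) :
    Function.Surjective (pull U.ι) := by
  haveI : IsLocallyNoetherian X :=
    LocallyOfFiniteType.isLocallyNoetherian (X ↘ Spec (CommRingCat.of k))
  intro c
  obtain ⟨L, hL, rfl⟩ := PicGrp.exists_eq_cls c
  obtain ⟨L', hL', ⟨e⟩⟩ := Groth.Agent.S0234.result X U L hL fun x hx => by
    haveI := h.dvr (k := k) ⟨x, isClosed_of_ne h (fun e => hx (e ▸ hU))⟩
    exact (inferInstance : UniqueFactorizationMonoid (X.presheaf.stalk x))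
  refine ⟨cls hL', ?_⟩
  rw [pull_cls]
  exact (nonempty_iso_iff _ hL).1 ⟨((Scheme.Modules.restrictFunctorIsoPullback U.ι).app L').symm ≪≫ e⟩

variable [IsAlgClosed k]

theorem cl_surjective : Function.Surjective (cl (k := k) h) := by
  intro c
  obtain ⟨L, hL, hc⟩ := PicGrp.exists_eq_cls c.toMul
  obtain ⟨φ, D, hφ, -⟩ := exists_divEmb h (isFunctionField (k := k) h.dim) hL
  exact ⟨D, (cl_eq h hL hφ).trans (congrArg Additive.ofMul hc.symm)⟩

/-- The degree of a class is the degree of the divisor. -/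
theorem deg0_cl (D : FunFld.Divisor k X.functionField) :
    PicDim.deg0 (X ↘ Spec (CommRingCat.of k)) (cl h D).toMul = D.deg := by
  obtain ⟨L, hL, φ, hφ, hc⟩ := exists_emb h D
  rw [hc, toMul_ofMul, PicDim.deg0, Groth.PicField.degC_specField _ hL,
    ← (numerics_of_divEmb h (isFunctionField (k := k) h.dim) hL hφ).2.1]

end Groth.ModelsGraphs.OpenCurve
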