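import Groth.Agent.ModelsGraphs.OpenCurve.Main
import Groth.Agent.CurveBridge.SmoothCurve

/-!
# `μ_n`-cohomology of an open curve: the inputs
-/

set_option autoImplicit false
set_option linter.unusedSectionVars false
set_option linter.style.haveILetI false
set_option backward.isDefEq.respectTransparency false
set_option backward.isDefEq.respectTransparency.types false

universe u

open CategoryTheory AlgebraicGeometry Opposite TopologicalSpace
open Groth.CurveBridge
open scoped Groth.Abvar.PicCalc

namespace Groth.ModelsGraphs.OpenCurve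

variable {k : Type u} [Field k] {X : Scheme.{u}} [X.Over (Spec (CommRingCat.of k))] [IsIntegral X]
  [IsProper (X ↘ Spec (CommRingCat.of k))] (h : IsRegCurve X) (U : X.Opens)

variable (k) in
include h k in
/-- An open with finite complement contains the generic point. -/
theorem generic_mem_of_finite_compl (hUc : ((U : Set X)ᶜ).Finite) : genericPoint X ∈ U := by
  haveI : JacobsonSpace X := LocallyOfFiniteType.jacobsonSpace (X ↘ Spec (CommRingCat.of k))
  by_contra hη
  have hfin : (Set.univ : Set X).Finite := hUc.subset fun x _ hx => hη (generic_mem U hx)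
  have hcl : IsClosed (closedPoints X) := by
    rw [← Set.biUnion_of_singleton (closedPoints X)]
    exact (hfin.subset (Set.subset_univ _)).isClosed_biUnion fun y hy => hy
  have huniv : closedPoints X = Set.univ := by
    rw [← hcl.closure_eq]; exact closure_closedPoints
  exact (isClosed_singleton_iff X h.dim (genericPoint X)).mp
    (huniv.symm ▸ Set.mem_univ (genericPoint X) : genericPoint X ∈ closedPoints X) rfl

theorem isUnit_natCast {m : ℕ} (hm : (m : k) ≠ 0) : IsUnit (m : Γ((U : Scheme.{u}), ⊤)) := by
  simpa using (isUnit_iff_ne_zero.2 hm).map (consts (k := k) U)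

variable [IsAlgClosed k] [Smooth (X ↘ Spec (CommRingCat.of k))]

variable (k) in
include h k in
/-- Higher cohomology of `𝔾ₘ` on the open vanishes. -/
theorem subsingleton_H_Gm (hU : genericPoint X ∈ U) {q : ℕ} (hq : 2 ≤ q) :
    Subsingleton (EtCoh.H (U : Scheme.{u}) (EtCoh.Gm (U : Scheme.{u})) q) := by
  haveI : CompactSpace X := QuasiCompact.compactSpace_of_compactSpace (X ↘ Spec (CommRingCat.of k))
  haveI : IsLocallyNoetherian X :=
    LocallyOfFiniteType.isLocallyNoetherian (X ↘ Spec (CommRingCat.of k))
  haveI : IsNoetherian X := ⟨⟩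
  haveI : Nonempty (U : Scheme.{u}) := ⟨⟨_, hU⟩⟩
  haveI : IsIntegral (U : Scheme.{u}) := isIntegral_of_isOpenImmersion U.ι
  have hdim : topologicalKrullDim (U : Scheme.{u}) = 1 :=
    (Groth.Variety2.Dim.dim_opens (X ↘ Spec (CommRingCat.of k)) U ⟨_, hU⟩).trans h.dim
  exact Groth.Agent.S0227.result k _ (U.ι ≫ (X ↘ Spec (CommRingCat.of k))) hdim q hq

end Groth.ModelsGraphs.OpenCurve
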