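import Groth.Agent.EtaleBase.KummerH1
import Groth.Agent.ModelsGraphs.OpenCurve.GroupCount
import Groth.Agent.AbVarMul.ZModFree
import Groth.Agent.Abvar.PicCalc
import Mathlib.CategoryTheory.Abelian.Refinements

/-!
# The cohomology of `μ_n` through the Kummer sequences
-/

set_option autoImplicit false
set_option backward.isDefEq.respectTransparency.types false

universe u

open CategoryTheory Limits AlgebraicGeometry Opposite
open CategoryTheory.Abelian (Ext)
open scoped Groth.Abvar.PicCalc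

namespace Groth.ModelsGraphs.OpenCurve

open Groth.EtaleBase.GmPic

set_option maxHeartbeats 1600000
set_option backward.isDefEq.respectTransparency false

variable (X : Scheme.{u})



/-- The map induced on cohomology. -/
noncomputable def hmap {F G : EtCoh.Ab X} (φ : F ⟶ G) (q : ℕ) : EtCoh.H X F q →+ EtCoh.H X G q :=
  AddMonoidHom.mk' (fun c => c.comp (Ext.mk₀ φ) (add_zero q)) fun a b => Ext.add_comp _ _ _ _

theorem hmap_comp {F G K : EtCoh.Ab X} (φ : F ⟶ G) (ψ : G ⟶ K) (q : ℕ) (c : EtCoh.H X F q) :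
    hmap X (φ ≫ ψ) q c = hmap X ψ q (hmap X φ q c) := by
  show c.comp (Ext.mk₀ (φ ≫ ψ)) (add_zero q) = (c.comp (Ext.mk₀ φ) (add_zero q)).comp (Ext.mk₀ ψ) (add_zero q)
  rw [Ext.comp_assoc_of_second_deg_zero, Ext.mk₀_comp_mk₀]

theorem hmap_nsmul {F G : EtCoh.Ab X} (φ : F ⟶ G) (m : ℕ) (q : ℕ) (c : EtCoh.H X F q) :
    hmap X (m • φ) q c = m • hmap X φ q c := by
  let Φ : (F ⟶ G) →+ EtCoh.H X G q :=
    AddMonoidHom.mk' (fun r => c.comp (Ext.mk₀ r) (add_zero q)) fun a b => by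
      rw [Ext.mk₀_add, Ext.comp_add]
  exact map_nsmul Φ m φ

theorem hmap_id (F : EtCoh.Ab X) (q : ℕ) (c : EtCoh.H X F q) : hmap X (𝟙 F) q c = c :=
  Ext.comp_mk₀_id c

theorem hmap_powMap (n : ℕ) (q : ℕ) (c : EtCoh.H X (EtCoh.Gm X) q) :
    hmap X (EtCoh.powMap X n) q c = n • c := by
  rw [EtCoh.powMap, hmap_nsmul, hmap_id]

/-- Units as the degree zero cohomology of `𝔾ₘ`. -/
noncomputable def h0Gm : Additive (Γ(X, ⊤) : Type u)ˣ →+ EtCoh.H X (EtCoh.Gm X) 0 :=
  AddMonoidHom.mk' (fun a => Ext.mk₀ ((Groth.EtaleBase.EtLimit.Resn.ev (EtCoh.Gm X)).symm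
    (gm (EtCoh.top X) a.toMul))) fun a b => by
      rw [← Ext.mk₀_add, ← map_add]
      exact congrArg (fun z => Ext.mk₀ ((Groth.EtaleBase.EtLimit.Resn.ev (EtCoh.Gm X)).symm z))
        (gm_mul (EtCoh.top X) a.toMul b.toMul)

theorem h0Gm_bijective : Function.Bijective (h0Gm X) := by
  let ev := Groth.EtaleBase.EtLimit.Resn.ev (EtCoh.Gm X)
  refine ⟨fun a b h => ?_, fun c => ?_⟩
  · exact Additive.toMul.injective (gm_injective _ (ev.symm.injective ((Ext.mk₀_bijective _ _).injective h)))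
  · obtain ⟨z, rfl⟩ := (Ext.mk₀_bijective _ _).2 c
    obtain ⟨a, ha⟩ := gm_surjective (EtCoh.top X) (ev z)
    exact ⟨Additive.ofMul a, congrArg Ext.mk₀ ((congrArg ev.symm ha).trans (ev.symm_apply_apply z))⟩

variable {X}

/-- The connecting map of a short exact sequence. -/
noncomputable def hδ {S : ShortComplex (EtCoh.Ab X)} (hS : S.ShortExact) (q q' : ℕ) (h : q + 1 = q') :
    EtCoh.H X S.X₃ q →+ EtCoh.H X S.X₁ q' :=
  AddMonoidHom.mk' (fun c => c.comp hS.extClass h) fun a b => Ext.add_comp _ _ _ _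

theorem exact₂ {S : ShortComplex (EtCoh.Ab X)} (hS : S.ShortExact) (q : ℕ) :
    (hmap X S.f q).range = (hmap X S.g q).ker := by
  ext c
  refine ⟨?_, fun hc => Ext.covariant_sequence_exact₂ _ hS c hc⟩
  rintro ⟨d, rfl⟩
  rw [AddMonoidHom.mem_ker, ← hmap_comp, S.zero]
  show d.comp (Ext.mk₀ (0 : S.X₁ ⟶ S.X₃)) (add_zero q) = 0
  rw [Ext.mk₀_zero, Ext.comp_zero]

theorem exact₁ {S : ShortComplex (EtCoh.Ab X)} (hS : S.ShortExact) (q q' : ℕ) (h : q + 1 = q') :
    (hδ hS q q' h).range = (hmap X S.f q').ker := by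
  ext c
  refine ⟨?_, fun hc => Ext.covariant_sequence_exact₁ _ hS c hc h⟩
  rintro ⟨d, rfl⟩
  show (d.comp hS.extClass h).comp (Ext.mk₀ S.f) (add_zero q') = 0
  rw [Ext.comp_assoc_of_third_deg_zero, hS.extClass_comp, Ext.comp_zero]

theorem exact₃ {S : ShortComplex (EtCoh.Ab X)} (hS : S.ShortExact) (q q' : ℕ) (h : q + 1 = q') :
    (hmap X S.g q).range = (hδ hS q q' h).ker := by
  ext c
  refine ⟨?_, fun hc => Ext.covariant_sequence_exact₃ _ hS c h hc⟩
  rintro ⟨d, rfl⟩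
  show (d.comp (Ext.mk₀ S.g) (add_zero q)).comp hS.extClass h = 0
  rw [Ext.comp_assoc_of_second_deg_zero, hS.comp_extClass, Ext.comp_zero]

variable (X) {n : ℕ}



/-- `H⁰(X, μ_n)` is the group of units killed by `n`. -/
theorem nonempty_H0_mu : Nonempty (EtCoh.H X (EtCoh.mu X n) 0 ≃+
    Tor n (Additive (Γ(X, ⊤) : Type u)ˣ)) := by
  let e := AddEquiv.ofBijective (h0Gm X) (h0Gm_bijective X)
  let φ : EtCoh.H X (EtCoh.mu X n) 0 →+ Additive (Γ(X, ⊤) : Type u)ˣ :=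
    e.symm.toAddMonoidHom.comp (hmap X (EtCoh.muι X n) 0)
  have hφ : Function.Injective φ := e.symm.injective.comp (by
    intro a b h
    obtain ⟨a, rfl⟩ := (Ext.mk₀_bijective _ _).2 a
    obtain ⟨b, rfl⟩ := (Ext.mk₀_bijective _ _).2 b
    have h' : Ext.mk₀ (a ≫ EtCoh.muι X n) = Ext.mk₀ (b ≫ EtCoh.muι X n) := by
      rw [← Ext.mk₀_comp_mk₀, ← Ext.mk₀_comp_mk₀]; exact h
    have : Mono (EtCoh.muι X n) := inferInstanceAs (Mono (kernel.ι _))
    exact congrArg Ext.mk₀ ((cancel_mono (EtCoh.muι X n)).1 ((Ext.mk₀_bijective _ _).injective h')))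
  have hr : φ.range = Tor n (Additive (Γ(X, ⊤) : Type u)ˣ) := by
    ext x
    rw [mem_tor]
    constructor
    · rintro ⟨c, rfl⟩
      apply e.injective
      show e (n • e.symm _) = e 0
      rw [map_nsmul, AddEquiv.apply_symm_apply, map_zero, ← hmap_powMap, ← hmap_comp,
        show EtCoh.muι X n ≫ EtCoh.powMap X n = 0 from kernel.condition _]
      show Ext.comp c (Ext.mk₀ 0) (add_zero 0) = 0
      rw [Ext.mk₀_zero, Ext.comp_zero]
    · intro hx
      obtain ⟨z, hz⟩ := (Ext.mk₀_bijective _ _).2 (e x)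
      have h0 : z ≫ EtCoh.powMap X n = 0 := (Ext.mk₀_bijective _ _).injective (by
        rw [Ext.mk₀_zero, ← Ext.mk₀_comp_mk₀, hz]
        exact (hmap_powMap X n 0 (e x)).trans (by rw [← map_nsmul, hx, map_zero]))
      refine ⟨Ext.mk₀ (kernel.lift _ z h0), ?_⟩
      show e.symm (hmap X (EtCoh.muι X n) 0 _) = x
      rw [AddEquiv.symm_apply_eq, ← hz]
      exact (Ext.mk₀_comp_mk₀ _ _).trans (congrArg Ext.mk₀ (kernel.lift_ι _ _ _))
  exact ⟨(AddMonoidHom.ofInjective hφ).trans (AddEquiv.addSubgroupCongr hr)⟩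

/-- The order of `H¹(X, μ_n)` from units and the Picard group. -/
theorem card_H1_mu [PicGrp.Law X] (hn : IsUnit (n : Γ(X, ⊤))) :
    Nat.card (EtCoh.H X (EtCoh.mu X n) 1) =
      Nat.card (ModN n (Additive (Γ(X, ⊤) : Type u)ˣ)) * Nat.card (Tor n (Additive (PicLoc.PicSet X))) := by
  have hS := Groth.EtaleBase.KummerH1.seq_shortExact X n hn
  obtain ⟨P⟩ := PicH1.nonempty_addEquiv (X := X)
  let f := hmap X (EtCoh.muι X n) 1
  let g₀ : Additive (Γ(X, ⊤) : Type u)ˣ →+ EtCoh.H X (EtCoh.mu X n) 1 :=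
    (hδ hS 0 1 rfl).comp (h0Gm X)
  have hk : g₀.ker = (nsmulAddMonoidHom n : Additive (Γ(X, ⊤) : Type u)ˣ →+ _).range := by
    ext a
    have hex := SetLike.ext_iff.1 (exact₃ hS 0 1 rfl) (h0Gm X a)
    refine ⟨fun ha => ?_, ?_⟩
    · obtain ⟨c, hc⟩ := hex.2 ha
      obtain ⟨b, rfl⟩ := (h0Gm_bijective X).2 c
      refine ⟨b, (h0Gm_bijective X).1 ?_⟩
      rw [nsmulAddMonoidHom_apply, map_nsmul, ← hmap_powMap]
      exact hc
    · rintro ⟨b, rfl⟩
      refine hex.1 ⟨h0Gm X b, ?_⟩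
      rw [nsmulAddMonoidHom_apply, map_nsmul, ← hmap_powMap]
      rfl
  let g : ModN n (Additive (Γ(X, ⊤) : Type u)ˣ) →+ EtCoh.H X (EtCoh.mu X n) 1 :=
    (QuotientAddGroup.kerLift g₀).comp (QuotientAddGroup.quotientAddEquivOfEq hk.symm).toAddMonoidHom
  have hg : Function.Injective g :=
    (QuotientAddGroup.kerLift_injective g₀).comp (QuotientAddGroup.quotientAddEquivOfEq hk.symm).injective
  have hgf : g.range = f.ker := by
    rw [show g.range = g₀.range from ?_]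
    · show ((hδ hS 0 1 rfl).comp (h0Gm X)).range = f.ker
      refine Eq.trans ?_ (exact₁ hS 0 1 rfl)
      ext c
      refine ⟨fun ⟨a, ha⟩ => ⟨h0Gm X a, ha⟩, ?_⟩
      rintro ⟨d, rfl⟩
      obtain ⟨a, rfl⟩ := (h0Gm_bijective X).2 d
      exact ⟨a, rfl⟩
    · refine le_antisymm ?_ ?_
      · rintro _ ⟨x, rfl⟩
        obtain ⟨a, rfl⟩ := QuotientAddGroup.mk_surjective x
        exact ⟨a, rfl⟩
      · rintro _ ⟨a, rfl⟩
        exact ⟨(a : ModN n (Additive (Γ(X, ⊤) : Type u)ˣ)), rfl⟩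
  rw [card_eq_mul f g hg hgf]
  congr 1
  let φ : EtCoh.H X (EtCoh.Gm X) 1 →+ Additive (PicLoc.PicSet X) := P.symm.toAddMonoidHom
  refine Nat.card_congr
    { toFun := fun c => ⟨P.symm c.1, by
        obtain ⟨_, d, rfl⟩ := c
        rw [mem_tor, ← map_nsmul, ← hmap_powMap, ← hmap_comp,
          show EtCoh.muι X n ≫ EtCoh.powMap X n = 0 from kernel.condition _]
        show P.symm (Ext.comp d (Ext.mk₀ 0) (add_zero 1)) = 0
        rw [Ext.mk₀_zero, Ext.comp_zero, map_zero]⟩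
      invFun := fun x => ⟨P x.1, (SetLike.ext_iff.1 (exact₂ hS 1) (P x.1)).2 (by
        rw [AddMonoidHom.mem_ker]
        exact (hmap_powMap X n 1 (P x.1)).trans (by rw [← map_nsmul, mem_tor.1 x.2, map_zero]))⟩
      left_inv := fun c => Subtype.ext (P.apply_symm_apply c.1)
      right_inv := fun x => Subtype.ext (P.symm_apply_apply x.1) }

/-- Vanishing of `H²(X, μ_n)`. -/
theorem subsingleton_H2_mu [PicGrp.Law X] (hn : IsUnit (n : Γ(X, ⊤)))
    [Subsingleton (EtCoh.H X (EtCoh.Gm X) 2)]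
    (hdiv : ∀ c : PicLoc.PicSet X, ∃ d, d ^ n = c) :
    Subsingleton (EtCoh.H X (EtCoh.mu X n) 2) := by
  have hS := Groth.EtaleBase.KummerH1.seq_shortExact X n hn
  obtain ⟨P⟩ := PicH1.nonempty_addEquiv (X := X)
  refine subsingleton_of_forall_eq 0 fun c => ?_
  obtain ⟨y, rfl⟩ := (SetLike.ext_iff.1 (exact₁ hS 1 2 rfl) c).2
    (Subsingleton.elim (α := EtCoh.H X (EtCoh.Gm X) 2) _ _)
  obtain ⟨d, hd⟩ := hdiv (P.symm y).toMul
  refine (SetLike.ext_iff.1 (exact₃ hS 1 2 rfl) y).1 ⟨P (Additive.ofMul d), ?_⟩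
  refine (hmap_powMap X n 1 _).trans ?_
  rw [← map_nsmul, ← ofMul_pow, hd, ofMul_toMul, AddEquiv.apply_symm_apply]

/-- Vanishing of higher cohomology of `μ_n`. -/
theorem subsingleton_H_mu (hn : IsUnit (n : Γ(X, ⊤))) (q : ℕ)
    [Subsingleton (EtCoh.H X (EtCoh.Gm X) q)] [Subsingleton (EtCoh.H X (EtCoh.Gm X) (q + 1))] :
    Subsingleton (EtCoh.H X (EtCoh.mu X n) (q + 1)) := by
  have hS := Groth.EtaleBase.KummerH1.seq_shortExact X n hn
  refine subsingleton_of_forall_eq 0 fun c => ?_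
  obtain ⟨y, rfl⟩ := (SetLike.ext_iff.1 (exact₁ hS q (q + 1) rfl) c).2
    (Subsingleton.elim (α := EtCoh.H X (EtCoh.Gm X) (q + 1)) _ _)
  exact (congrArg (hδ hS q (q + 1) rfl) (Subsingleton.elim (α := EtCoh.H X (EtCoh.Gm X) q) y 0)).trans
    (map_zero _)

section Levels

variable {a b : ℕ}

theorem muι_pow_eq (hab : a * b = n) : EtCoh.muι X a ≫ EtCoh.powMap X n = 0 := by
  have h : EtCoh.powMap X n = EtCoh.powMap X a ≫ EtCoh.powMap X b := by
    simp [EtCoh.powMap, Preadditive.comp_nsmul, smul_smul, mul_comm, ← hab]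
  rw [h, ← Category.assoc, show EtCoh.muι X a ≫ EtCoh.powMap X a = 0 from kernel.condition _, zero_comp]

theorem pow_muι_eq (hab : a * b = n) :
    (EtCoh.muι X n ≫ EtCoh.powMap X a) ≫ EtCoh.powMap X b = 0 := by
  have h : EtCoh.powMap X a ≫ EtCoh.powMap X b = EtCoh.powMap X n := by
    simp [EtCoh.powMap, Preadditive.comp_nsmul, smul_smul, mul_comm, ← hab]
  rw [Category.assoc, h]
  exact kernel.condition _

/-- The inclusion `μ_a ⟶ μ_{ab}`. -/
noncomputable def muIncl (hab : a * b = n) : EtCoh.mu X a ⟶ EtCoh.mu X n :=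
  kernel.lift _ (EtCoh.muι X a) (muι_pow_eq X hab)

/-- The power map `μ_{ab} ⟶ μ_b`. -/
noncomputable def muPow (hab : a * b = n) : EtCoh.mu X n ⟶ EtCoh.mu X b :=
  kernel.lift _ (EtCoh.muι X n ≫ EtCoh.powMap X a) (pow_muι_eq X hab)

theorem muIncl_ι (hab : a * b = n) : muIncl X hab ≫ EtCoh.muι X n = EtCoh.muι X a :=
  kernel.lift_ι _ _ _

theorem muPow_ι (hab : a * b = n) :
    muPow X hab ≫ EtCoh.muι X b = EtCoh.muι X n ≫ EtCoh.powMap X a :=
  kernel.lift_ι _ _ _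

theorem muPow_muIncl (hab : a * b = n) :
    muPow X hab ≫ muIncl X (show b * a = n by rw [mul_comm, hab]) = a • 𝟙 (EtCoh.mu X n) := by
  have : Mono (EtCoh.muι X n) := inferInstanceAs (Mono (kernel.ι _))
  rw [← cancel_mono (EtCoh.muι X n), Category.assoc, muIncl_ι, muPow_ι]
  simp [EtCoh.powMap, Preadditive.comp_nsmul, Preadditive.nsmul_comp]

/-- The sequence `μ_a ⟶ μ_{ab} ⟶ μ_b`. -/
noncomputable def levelSeq (hab : a * b = n) : ShortComplex (EtCoh.Ab X) :=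
  ShortComplex.mk (muIncl X hab) (muPow X hab) (by
    have : Mono (EtCoh.muι X b) := inferInstanceAs (Mono (kernel.ι _))
    rw [← cancel_mono (EtCoh.muι X b), Category.assoc, muPow_ι, ← Category.assoc, muIncl_ι, zero_comp]
    exact kernel.condition _)

instance mono_muIncl (hab : a * b = n) : Mono (muIncl X hab) := by
  have : Mono (muIncl X hab ≫ EtCoh.muι X n) := by
    rw [muIncl_ι]; exact inferInstanceAs (Mono (kernel.ι _))
  exact mono_of_mono (muIncl X hab) (EtCoh.muι X n)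

theorem levelSeq_shortExact (hab : a * b = n) (ha : IsUnit (a : Γ(X, ⊤))) :
    (levelSeq X hab).ShortExact where
  mono_f := mono_muIncl X hab
  exact := by
    refine ShortComplex.exact_of_f_is_kernel _
      (KernelFork.IsLimit.ofι' (muIncl X hab) (levelSeq X hab).zero fun {A} x hx => ?_)
    have hx' : (x ≫ EtCoh.muι X n) ≫ EtCoh.powMap X a = 0 := by
      rw [Category.assoc, ← muPow_ι X hab, ← Category.assoc, show x ≫ muPow X hab = 0 from hx, zero_comp]
    refine ⟨kernel.lift _ (x ≫ EtCoh.muι X n) hx', ?_⟩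
    have : Mono (EtCoh.muι X n) := inferInstanceAs (Mono (kernel.ι _))
    rw [← cancel_mono (EtCoh.muι X n), Category.assoc, muIncl_ι]
    exact kernel.lift_ι _ _ _
  epi_g := by
    show Epi (muPow X hab)
    rw [epi_iff_surjective_up_to_refinements]
    intro A y
    have : Epi (EtCoh.powMap X a) := Groth.Agent.S0108.result X a ha
    obtain ⟨A', π, hπ, z, hz⟩ := surjective_up_to_refinements_of_epi (EtCoh.powMap X a) (y ≫ EtCoh.muι X b)
    have hzn : z ≫ EtCoh.powMap X n = 0 := by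
      have h : EtCoh.powMap X n = EtCoh.powMap X a ≫ EtCoh.powMap X b := by
        simp [EtCoh.powMap, Preadditive.comp_nsmul, smul_smul, mul_comm, ← hab]
      rw [h, ← Category.assoc, ← hz, Category.assoc, Category.assoc,
        show EtCoh.muι X b ≫ EtCoh.powMap X b = 0 from kernel.condition _, comp_zero, comp_zero]
    refine ⟨A', π, hπ, kernel.lift _ z hzn, ?_⟩
    have : Mono (EtCoh.muι X b) := inferInstanceAs (Mono (kernel.ι _))
    rw [← cancel_mono (EtCoh.muι X b), Category.assoc, Category.assoc]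
    show π ≫ y ≫ EtCoh.muι X b = kernel.lift _ z hzn ≫ muPow X hab ≫ EtCoh.muι X b
    rw [muPow_ι, ← Category.assoc (kernel.lift _ z hzn)]
    exact hz.trans (congrArg (· ≫ EtCoh.powMap X a) (kernel.lift_ι _ _ _).symm)

/-- `H¹(X, μ_a) → H¹(X, μ_{ab})` is injective when `b`-th roots of unity have `a`-th roots. -/
theorem hmap_muIncl_injective (hab : a * b = n) (ha : IsUnit (a : Γ(X, ⊤)))
    (hroots : ∀ x : (Γ(X, ⊤) : Type u)ˣ, x ^ b = 1 → ∃ y, y ^ a = x) :
    Function.Injective (hmap X (muIncl X hab) 1) := by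
  have hS := levelSeq_shortExact X hab ha
  refine (injective_iff_map_eq_zero _).2 fun c hc => ?_
  obtain ⟨d, rfl⟩ := (SetLike.ext_iff.1 (exact₁ hS 0 1 rfl) c).2 hc
  refine (SetLike.ext_iff.1 (exact₃ hS 0 1 rfl) d).1 ?_
  obtain ⟨z, rfl⟩ := (Ext.mk₀_bijective _ _).2 d
  obtain ⟨x, hx⟩ := (h0Gm_bijective X).2 (Ext.mk₀ (z ≫ EtCoh.muι X b))
  have hxb : x.toMul ^ b = 1 := by
    have : b • x = 0 := (h0Gm_bijective X).1 (by
      rw [map_nsmul, hx, map_zero, ← hmap_powMap]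
      show (Ext.mk₀ _).comp (Ext.mk₀ _) (add_zero 0) = 0
      rw [Ext.mk₀_comp_mk₀, Category.assoc,
        show EtCoh.muι X b ≫ EtCoh.powMap X b = 0 from kernel.condition _, comp_zero, Ext.mk₀_zero])
    exact congrArg Additive.toMul this
  obtain ⟨y, hy⟩ := hroots x.toMul hxb
  obtain ⟨w, hw⟩ := (Ext.mk₀_bijective _ _).2 (h0Gm X (Additive.ofMul y))
  have hwa : w ≫ EtCoh.powMap X a = z ≫ EtCoh.muι X b := (Ext.mk₀_bijective _ _).injective (by
    rw [← Ext.mk₀_comp_mk₀, hw, ← hx]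
    refine (hmap_powMap X a 0 _).trans ?_
    rw [← map_nsmul, ← ofMul_pow, hy, ofMul_toMul])
  have hwn : w ≫ EtCoh.powMap X n = 0 := by
    have h : EtCoh.powMap X n = EtCoh.powMap X a ≫ EtCoh.powMap X b := by
      simp [EtCoh.powMap, Preadditive.comp_nsmul, smul_smul, mul_comm, ← hab]
    rw [h, ← Category.assoc, hwa, Category.assoc,
      show EtCoh.muι X b ≫ EtCoh.powMap X b = 0 from kernel.condition _, comp_zero]
  refine ⟨Ext.mk₀ (kernel.lift _ w hwn), ?_⟩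
  show (Ext.mk₀ _).comp (Ext.mk₀ (muPow X hab)) (add_zero 0) = _
  rw [Ext.mk₀_comp_mk₀]
  congr 1
  have : Mono (EtCoh.muι X b) := inferInstanceAs (Mono (kernel.ι _))
  rw [← cancel_mono (EtCoh.muι X b), Category.assoc, muPow_ι, ← Category.assoc]
  exact (congrArg (· ≫ EtCoh.powMap X a) (kernel.lift_ι _ _ _)).trans hwa

end Levels

/-- `H¹(X, μ_n) ≅ (ℤ/n)^R` when every level has `m ^ R` elements. -/
theorem nonempty_H1_mu_addEquiv (hn0 : 0 < n) (hn : IsUnit (n : Γ(X, ⊤))) (R : ℕ)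
    (hcard : ∀ m, m ∣ n → Nat.card (EtCoh.H X (EtCoh.mu X m) 1) = m ^ R)
    (hH2 : ∀ m, m ∣ n → Subsingleton (EtCoh.H X (EtCoh.mu X m) 2))
    (hroots : ∀ a b : ℕ, a * b = n → ∀ x : (Γ(X, ⊤) : Type u)ˣ, x ^ b = 1 → ∃ y, y ^ a = x) :
    Nonempty (EtCoh.H X (EtCoh.mu X n) 1 ≃+ (Fin R → ZMod n)) := by
  have hkill : ∀ c : EtCoh.H X (EtCoh.mu X n) 1, n • c = 0 := fun c => by
    rw [← hmap_id X _ 1 c, ← hmap_nsmul]
    have : (n • 𝟙 (EtCoh.mu X n)) = 0 := by
      have : Mono (EtCoh.muι X n) := inferInstanceAs (Mono (kernel.ι _))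
      rw [← cancel_mono (EtCoh.muι X n), zero_comp, Preadditive.nsmul_comp, Category.id_comp]
      have h := kernel.condition (EtCoh.powMap X n)
      simpa [EtCoh.powMap, Preadditive.comp_nsmul, EtCoh.muι] using h
    rw [this]
    show Ext.comp c (Ext.mk₀ 0) (add_zero 1) = 0
    rw [Ext.mk₀_zero, Ext.comp_zero]
  have : Finite (EtCoh.H X (EtCoh.mu X n) 1) :=
    Nat.finite_of_card_ne_zero (by rw [hcard n dvd_rfl]; positivity)
  refine Groth.AbVarMul.nonempty_addEquiv_fun_zmod hn0 hkill (hcard n dvd_rfl) fun p hp hpn => ?_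
  obtain ⟨m, hm⟩ := hpn
  have hp' : IsUnit (p : Γ(X, ⊤)) := isUnit_of_dvd_unit ⟨(m : Γ(X, ⊤)), by rw [hm, Nat.cast_mul]⟩ hn
  have hmu : IsUnit (m : Γ(X, ⊤)) := isUnit_of_dvd_unit ⟨(p : Γ(X, ⊤)), by rw [hm, Nat.cast_mul, mul_comm]⟩ hn
  have hpm : p * m = n := hm.symm
  have hmp : m * p = n := by rw [hm, mul_comm]
  -- multiplication by `p` factors as a surjection to level `m` and an injection
  let F : EtCoh.H X (EtCoh.mu X n) 1 →+ EtCoh.H X (EtCoh.mu X n) 1 := nsmulAddMonoidHom p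
  have hF : ∀ c, F c = hmap X (muIncl X hmp) 1 (hmap X (muPow X hpm) 1 c) := fun c => by
    rw [← hmap_comp, muPow_muIncl, hmap_nsmul, hmap_id]
    rfl
  have hπ : Function.Surjective (hmap X (muPow X hpm) 1) := fun c =>
    (SetLike.ext_iff.1 (exact₃ (levelSeq_shortExact X hpm hp') 1 2 rfl) c).2
      (haveI := hH2 p ⟨m, hm⟩; Subsingleton.elim (α := EtCoh.H X (EtCoh.mu X p) 2) _ _)
  have hinj := hmap_muIncl_injective X hmp hmu fun x hx => hroots m p hmp x hx
  have hrange : Nat.card F.range = m ^ R := by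
    rw [← hcard m ⟨p, hmp.symm⟩, Nat.card_congr (AddMonoidHom.ofInjective hinj).toEquiv]
    refine Nat.card_congr (Equiv.setCongr ?_)
    ext c
    constructor
    · rintro ⟨d, rfl⟩
      exact ⟨_, (hF d).symm⟩
    · rintro ⟨e, rfl⟩
      obtain ⟨d, rfl⟩ := hπ e
      exact ⟨d, hF d⟩
  have hmul := card_eq_mul F F.ker.subtype Subtype.val_injective (AddSubgroup.range_subtype _)
  rw [hrange, hcard n dvd_rfl] at hmul
  replace hmul : p ^ R * m ^ R = Nat.card F.ker * m ^ R := by rw [← mul_pow, hpm]; exact hmul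
  have hm0 : 0 < m := Nat.pos_of_ne_zero (by rintro rfl; omega)
  exact (Nat.eq_of_mul_eq_mul_right (pow_pos hm0 R) hmul).symm

end Groth.ModelsGraphs.OpenCurve
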