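import Groth.Agent.ModelsGraphs.OpenCurve.DivClass
import Groth.Agent.ModelsGraphs.OpenCurve.KummerMu
import Groth.Agent.ModelsGraphs.PicDim.PicDeg
import Groth.Agent.S6545
import Groth.Agent.S0227

/-!
# Units, classes and `μ_n` on an open subset of a curve over an algebraically closed field
-/

set_option autoImplicit false
set_option linter.unusedSectionVars false
set_option linter.style.haveILetI false
set_option backward.isDefEq.respectTransparency false
set_option backward.isDefEq.respectTransparency.types false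

universe u

open CategoryTheory AlgebraicGeometry Opposite TopologicalSpace WithZero
open Groth.CurveBridge
open Groth.Abvar.PicCalc (cls pull)
open scoped Groth.Abvar.PicCalc

namespace Groth.ModelsGraphs.OpenCurve

set_option maxHeartbeats 800000

variable {k : Type u} [Field k] {X : Scheme.{u}} [X.Over (Spec (CommRingCat.of k))] [IsIntegral X]
  [IsProper (X ↘ Spec (CommRingCat.of k))]

section Algebra

/-- Homomorphisms with divisible kernel do not change the quotient modulo `n`. -/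
theorem card_modN_eq_of_surjective {A B : Type*} [AddCommGroup A] [AddCommGroup B] {n : ℕ}
    (f : A →+ B) (hf : Function.Surjective f) (hk : ∀ a, f a = 0 → ∃ d, n • d = a) :
    Nat.card (ModN n A) = Nat.card (ModN n B) := by
  let F : ModN n A →+ ModN n B := QuotientAddGroup.lift _ ((QuotientAddGroup.mk' _).comp f) (by
    rintro _ ⟨d, rfl⟩
    exact (mk_eq_zero_iff _).2 ⟨f d, (map_nsmul f n d).symm⟩)
  refine Nat.card_congr (Equiv.ofBijective F ⟨?_, ?_⟩)
  · refine (injective_iff_map_eq_zero F).2 fun x hx => ?_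
    obtain ⟨a, rfl⟩ := QuotientAddGroup.mk_surjective x
    obtain ⟨b, hb⟩ := (mk_eq_zero_iff (f a)).1 hx
    obtain ⟨a', rfl⟩ := hf b
    obtain ⟨d, hd⟩ := hk (a - n • a') (by rw [map_sub, map_nsmul, hb, sub_self])
    exact (mk_eq_zero_iff a).2 ⟨a' + d, by rw [nsmul_add, hd, add_sub_cancel]⟩
  · intro y
    obtain ⟨b, rfl⟩ := QuotientAddGroup.mk_surjective y
    obtain ⟨a, rfl⟩ := hf b
    exact ⟨(a : ModN n A), rfl⟩

theorem card_tor_congr {A B : Type*} [AddCommGroup A] [AddCommGroup B] (e : A ≃+ B) (n : ℕ) :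
    Nat.card (Tor n A) = Nat.card (Tor n B) :=
  Nat.card_congr (e.toEquiv.subtypeEquiv fun a => by
    show n • a = 0 ↔ n • e a = 0
    rw [← map_nsmul, e.map_eq_zero_iff])

end Algebra

variable (h : IsRegCurve X) (U : X.Opens) (hU : genericPoint X ∈ U)

/-- Functions regular on the open as rational functions. -/
noncomputable def gam : Γ((U : Scheme.{u}), ⊤) →+* X.functionField :=
  (X.presheaf.germ U (genericPoint X) hU).hom.comp U.topIso.hom.hom

theorem gam_injective : Function.Injective (gam U hU) :=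
  (germ_injective_of_isIntegral X (U := U) (genericPoint X) hU).comp
    (ConcreteCategory.bijective_of_isIso U.topIso.hom).1

/-- Constants on the open. -/
noncomputable def consts : k →+* Γ((U : Scheme.{u}), ⊤) :=
  U.topIso.inv.hom.comp ((X.presheaf.map (homOfLE (le_top : U ≤ ⊤)).op).hom.comp
    (Coh.toGlobal (X ↘ Spec (CommRingCat.of k))))

theorem topIso_inv_hom (z : Γ(X, U)) : U.topIso.hom (U.topIso.inv z) = z := by
  rw [← CategoryTheory.comp_apply, Iso.inv_hom_id]; rfl

theorem gam_consts (c : k) : gam U hU (consts U c) = algebraMap k X.functionField c := by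
  show X.presheaf.germ U _ hU (U.topIso.hom (U.topIso.inv _)) = _
  rw [topIso_inv_hom]
  exact TopCat.Presheaf.germ_res_apply X.presheaf _ _ _ _

include h

theorem val_gam (u : (Γ((U : Scheme.{u}), ⊤) : Type u)ˣ) (y : Pt X) (hy : y.1 ∈ U) :
    (placeAt (k := k) h y).1 (gam U hU u) = 1 := by
  have he : algebraMap (X.presheaf.stalk y.1) X.functionField
      (X.presheaf.germ U y.1 hy (U.topIso.hom (u : Γ((U : Scheme.{u}), ⊤)))) = gam U hU u :=
    germ_generic U y.1 hy _
  rw [← he]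
  refine le_antisymm ((placeAt_le_one_iff h y _).2 ⟨_, rfl⟩) (not_lt.1 fun hlt => ?_)
  rw [placeAt_lt_one_iff, IsLocalRing.mem_maximalIdeal] at hlt
  exact hlt ((u.isUnit.map U.topIso.hom.hom).map (X.presheaf.germ U y.1 hy).hom)

theorem exists_unit (z : X.functionField) (hz0 : z ≠ 0)
    (hz : ∀ y : Pt X, y.1 ∈ U → (placeAt (k := k) h y).1 z = 1) :
    ∃ u : (Γ((U : Scheme.{u}), ⊤) : Type u)ˣ, gam U hU u = z := by
  obtain ⟨r, hr, hrz⟩ := Groth.ZetaAn.exists_unit_section (k := k) h hU hz0 hz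
  refine ⟨(hr.map U.topIso.inv.hom).unit, ?_⟩
  show X.presheaf.germ U _ hU (U.topIso.hom (U.topIso.inv r)) = z
  rw [topIso_inv_hom]
  exact hrz

variable [IsAlgClosed k]
include hU

/-- Units that are roots of unity are constants. -/
theorem exists_const_of_pow_eq_one {u : (Γ((U : Scheme.{u}), ⊤) : Type u)ˣ} {b : ℕ} (hb : b ≠ 0)
    (hu : u ^ b = 1) : ∃ c : kˣ, c ^ b = 1 ∧ Units.map (consts (k := k) U).toMonoidHom c = u := by
  have hub : gam U hU u ^ b = 1 := by
    rw [← map_pow, ← Units.val_pow_eq_pow_val, hu, Units.val_one, map_one]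
  obtain ⟨c, hc⟩ := (isFunctionField (k := k) h.dim).2 (gam U hU u)
    (IsIntegral.of_pow (Nat.pos_of_ne_zero hb) (hub ▸ isIntegral_one)).isAlgebraic
  have hcb : c ^ b = 1 := (algebraMap k X.functionField).injective (by rw [map_pow, hc, hub, map_one])
  refine ⟨Units.ofPowEqOne c b hcb hb, Units.ext (by simpa using hcb),
    Units.ext (gam_injective U hU ?_)⟩
  exact (gam_consts U hU c).trans hc

/-- `n`-th roots of unity among the functions on the open. -/
theorem nonempty_tor_units (n : ℕ) (hn : n ≠ 0) :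
    Nonempty (Tor n (Additive (Γ((U : Scheme.{u}), ⊤) : Type u)ˣ) ≃+ Additive ↥(rootsOfUnity n k)) := by
  let ν : Additive ↥(rootsOfUnity n k) →+ Tor n (Additive (Γ((U : Scheme.{u}), ⊤) : Type u)ˣ) :=
    AddMonoidHom.mk' (fun x => ⟨Additive.ofMul (Units.map (consts (k := k) U).toMonoidHom x.toMul.1),
      mem_tor.2 (by
        rw [← ofMul_pow, ← map_pow, (mem_rootsOfUnity n _).1 x.toMul.2, map_one]; rfl)⟩)
      fun a b => Subtype.ext (congrArg Additive.ofMul (map_mul _ _ _))
  refine ⟨(AddEquiv.ofBijective ν ⟨fun a b hab => ?_, fun x => ?_⟩).symm⟩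
  · refine Additive.toMul.injective (Subtype.ext (Units.ext ?_))
    have := congrArg (fun z : Tor n (Additive (Γ((U : Scheme.{u}), ⊤) : Type u)ˣ) =>
      gam U hU (z.1.toMul : Γ((U : Scheme.{u}), ⊤))) hab
    exact (algebraMap k X.functionField).injective
      ((gam_consts U hU _).symm.trans (this.trans (gam_consts U hU _)))
  · obtain ⟨c, hc, hcu⟩ := exists_const_of_pow_eq_one (k := k) h U hU hn
      (congrArg Additive.toMul (mem_tor.1 x.2))
    exact ⟨Additive.ofMul ⟨c, (mem_rootsOfUnity n c).2 hc⟩, Subtype.ext (congrArg Additive.ofMul hcu)⟩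

variable (k) in
include k in
/-- Roots of roots of unity. -/
theorem exists_root_unit (a b : ℕ) (ha : a ≠ 0) (hb : b ≠ 0)
    (x : (Γ((U : Scheme.{u}), ⊤) : Type u)ˣ) (hx : x ^ b = 1) : ∃ y, y ^ a = x := by
  obtain ⟨c, -, rfl⟩ := exists_const_of_pow_eq_one (k := k) h U hU hb hx
  obtain ⟨d, hd⟩ := IsAlgClosed.exists_pow_nat_eq (c : k) (Nat.pos_of_ne_zero ha)
  have hd0 : d ≠ 0 := by rintro rfl; rw [zero_pow ha] at hd; exact c.ne_zero hd.symm
  exact ⟨Units.map (consts (k := k) U).toMonoidHom (Units.mk0 d hd0), by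
    rw [← map_pow]; exact congrArg _ (Units.ext (by simpa using hd))⟩

section Count

variable [Smooth (X ↘ Spec (CommRingCat.of k))] {n : ℕ}

omit hU in
/-- The degree of classes. -/
theorem exists_degHom : ∃ d : Additive (PicLoc.PicSet X) →+ ℤ,
    (∀ D, d (cl (k := k) h D) = D.deg) ∧
    ∀ n : ℕ, n ≠ 0 → ∀ c, d c = 0 → ∃ b, n • b = c := by
  let p := X ↘ Spec (CommRingCat.of k)
  haveI : JacobsonSpace X := LocallyOfFiniteType.jacobsonSpace p
  obtain ⟨x, -, hx⟩ := nonempty_inter_closedPoints (Z := (Set.univ : Set X))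
    Set.univ_nonempty isOpen_univ.isLocallyClosed
  have hf : Groth.PicCurve.IsPtCurve p := Groth.PicCurve.isPtCurve
    ⟨‹_›, ‹_›, ‹_›, h.dim⟩ (pointOfClosedPoint p x hx) (pointOfClosedPoint_comp p x hx)
  refine ⟨AddMonoidHom.mk' (fun c => PicDim.deg0 p c.toMul)
    fun a b => PicDim.deg0_mul hf a.toMul b.toMul, fun D => deg0_cl h D, fun n hn c hc => ?_⟩
  obtain ⟨b, hb⟩ := PicDim.exists_root_of_deg0_zero hf (pointOfClosedPoint_comp p x hx) hn hc
  exact ⟨Additive.ofMul b, congrArg Additive.ofMul hb⟩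

omit hU in
/-- `n ^ 2g` classes killed by `n`. -/
theorem card_tor_pic (hn : (n : k) ≠ 0) :
    Nat.card (Tor n (Additive (PicLoc.PicSet X))) = n ^ (2 * Curv2.genus k X) := by
  have h6 := Groth.Agent.S6545.result k X h.dim n (isUnit_iff_ne_zero.2 hn)
  rw [PicDim.card_cl_eq] at h6
  rw [← h6]
  exact Nat.card_congr
    { toFun := fun c => ⟨c.1.toMul, congrArg Additive.toMul (mem_tor.1 c.2)⟩
      invFun := fun c => ⟨Additive.ofMul c.1, congrArg Additive.ofMul c.2⟩
      left_inv := fun _ => rfl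
      right_inv := fun _ => rfl }

/-- Restriction to a proper open is onto with divisible target, and the count of units and torsion. -/
theorem card_units_pic (hn : (n : k) ≠ 0) (hT : ((U : Set X)ᶜ).Finite) (hne : ((U : Set X)ᶜ).Nonempty) :
    Nat.card (ModN n (Additive (Γ((U : Scheme.{u}), ⊤) : Type u)ˣ)) *
        Nat.card (Tor n (Additive (PicLoc.PicSet (U : Scheme.{u})))) =
      n ^ (2 * Curv2.genus k X + Nat.card ↥((U : Set X)ᶜ) - 1) ∧
    ∀ c : PicLoc.PicSet (U : Scheme.{u}), ∃ d, d ^ n = c := by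
  classical
  have hn0 : n ≠ 0 := fun e => hn (by rw [e, Nat.cast_zero])
  let T : Type u := {x : Pt X // x.1 ∉ U}
  let E : T ≃ ↥((U : Set X)ᶜ) :=
    { toFun := fun t => ⟨t.1.1, t.2⟩
      invFun := fun x => ⟨⟨x.1, isClosed_of_ne h fun e => x.2 (e ▸ hU)⟩, x.2⟩
      left_inv := fun _ => rfl
      right_inv := fun _ => rfl }
  haveI : Finite T := @Finite.of_equiv _ _ hT.to_subtype E.symm
  haveI : Nonempty T := ⟨E.symm ⟨_, hne.choose_spec⟩⟩
  let pe : T → FunFld.Place k X.functionField := fun t => placeAt (k := k) h t.1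
  have hpe : Function.Injective pe := (placeAt_injective h).comp Subtype.val_injective
  let jD : (T →₀ ℤ) →+ FunFld.Divisor k X.functionField := Finsupp.mapDomain.addMonoidHom pe
  have hjD : Function.Injective jD := Finsupp.mapDomain_injective hpe
  have hj0 : ∀ m (y : Pt X), y.1 ∈ U → jD m (placeAt (k := k) h y) = 0 := fun m y hy =>
    Finsupp.mapDomain_of_notMem_range _ _ fun ⟨t, ht⟩ => t.2 (placeAt_injective h ht ▸ hy)
  have hjr : ∀ D : FunFld.Divisor k X.functionField,
      (∀ y : Pt X, y.1 ∈ U → D (placeAt (k := k) h y) = 0) → ∃ m, jD m = D := fun D hD => by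
    refine ⟨D.comapDomain pe hpe.injOn, Finsupp.mapDomain_comapDomain pe hpe D fun P hP => ?_⟩
    obtain ⟨y, rfl⟩ := placeAt_surjective (k := k) h P
    exact ⟨⟨y, fun hy => Finsupp.mem_support_iff.1 hP (hD y hy)⟩, rfl⟩
  let ψ : (T →₀ ℤ) →+ Additive (PicLoc.PicSet X) := (cl (k := k) h).comp jD
  let Φ : Additive (PicLoc.PicSet X) →+ Additive (PicLoc.PicSet (U : Scheme.{u})) :=
    MonoidHom.toAdditive (pull U.ι)
  have hΦ : Function.Surjective Φ := fun c => by
    obtain ⟨d, hd⟩ := pull_surjective k h hU c.toMul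
    exact ⟨Additive.ofMul d, congrArg Additive.ofMul hd⟩
  have hψΦ : ψ.range = Φ.ker := by
    ext c
    obtain ⟨D, rfl⟩ := cl_surjective (k := k) h c
    have key : cl h D ∈ Φ.ker ↔ pull U.ι (cl h D).toMul = 1 :=
      ⟨fun e => congrArg Additive.toMul e, fun e => congrArg Additive.ofMul e⟩
    rw [key, pull_cl_eq_one_iff h D hU]
    constructor
    · rintro ⟨m, hm⟩
      have h0 : cl h (D - jD m) = 0 := by rw [map_sub, ← hm]; exact sub_self _
      obtain ⟨μ, hμ, he⟩ := (cl_eq_zero_iff h _).1 h0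
      refine ⟨μ⁻¹, inv_ne_zero hμ, fun y hy => ?_⟩
      rw [Groth.FunFld1.ord_inv, ← div_apply h, ← he, Finsupp.sub_apply, hj0 m y hy, sub_zero]
      exact add_neg_cancel _
    · rintro ⟨μ, hμ, h0⟩
      obtain ⟨m, hm⟩ := hjr (D + FunFld.div k μ) fun y hy => by
        rw [Finsupp.add_apply, div_apply h]; exact h0 y hy
      exact ⟨m, (congrArg (cl h) hm).trans (cl_add_div h D hμ)⟩
  -- degrees
  obtain ⟨d, hd, hroot⟩ := exists_degHom (k := k) h
  obtain ⟨t₀⟩ := ‹Nonempty T›
  have hdψ : ∀ z : ℤ, d (ψ (Finsupp.single t₀ z)) = z := fun z => by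
    rw [show ψ (Finsupp.single t₀ z) = cl h (Finsupp.single (pe t₀) z) from
      congrArg (cl h) Finsupp.mapDomain_single, hd, Groth.FunFld1.deg_single,
      Groth.FunFld1.deg_eq_one_of_isAlgClosed (isFF k X h.dim), Nat.cast_one, mul_one]
  have hsurj : ∀ c, ∃ (m : T →₀ ℤ) (b : Additive (PicLoc.PicSet X)), c = ψ m + n • b := fun c => by
    obtain ⟨b, hb⟩ := hroot n hn0 (c - ψ (Finsupp.single t₀ (d c))) (by rw [map_sub, hdψ, sub_self])
    exact ⟨_, b, by rw [hb, add_sub_cancel]⟩
  have hC : Nat.card (ModN n (Additive (PicLoc.PicSet X))) = n := by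
    have h1 : Nat.card (ModN n ℤ) = n := by
      rw [Nat.card_congr (QuotientAddGroup.quotientAddEquivOfEq
        (show (nsmulAddMonoidHom n : ℤ →+ ℤ).range = AddSubgroup.zmultiples (n : ℤ) from ?_)).toEquiv,
        Nat.card_congr (Int.quotientZMultiplesNatEquivZMod n).toEquiv, Nat.card_zmod]
      ext z
      rw [AddMonoidHom.mem_range, Int.mem_zmultiples_iff]
      exact ⟨fun ⟨w, hw⟩ => ⟨w, by rw [← hw]; simp⟩, fun ⟨w, hw⟩ => ⟨w, by rw [hw]; simp⟩⟩
    rw [card_modN_eq_of_surjective d (fun z => ⟨_, hdψ z⟩) (hroot n hn0), h1]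
  -- units
  have hunit : ∀ v : (Γ((U : Scheme.{u}), ⊤) : Type u)ˣ, ∃ m : ψ.ker,
      jD m.1 = FunFld.div k (gam U hU v) := fun v => by
    obtain ⟨m, hm⟩ := hjr (FunFld.div k (gam U hU v)) fun y hy => by
      rw [div_apply h]
      exact (Groth.FunFld1.ord_eq_of_val_eq _ ((val_gam h U hU v y hy).trans exp_zero.symm)).trans neg_zero
    refine ⟨⟨m, ?_⟩, hm⟩
    show cl h (jD m) = 0
    exact (cl_eq_zero_iff h _).2 ⟨_, (v.isUnit.map (gam U hU)).ne_zero, hm⟩
  choose g hg using hunit
  let θ : Additive (Γ((U : Scheme.{u}), ⊤) : Type u)ˣ →+ ψ.ker :=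
    AddMonoidHom.mk' (fun v => g v.toMul) fun a b => Subtype.ext (hjD (by
      show jD (g (a.toMul * b.toMul)).1 = jD ((g a.toMul).1 + (g b.toMul).1)
      rw [map_add, hg, hg, hg, Units.val_mul, map_mul]
      exact (isFF k X h.dim).div_mul (a.toMul.isUnit.map _).ne_zero (b.toMul.isUnit.map _).ne_zero))
  have hθ : Function.Surjective θ := fun m => by
    obtain ⟨μ, hμ, hm⟩ := (cl_eq_zero_iff h (jD m.1)).1 m.2
    obtain ⟨v, hv⟩ := exists_unit (k := k) h U hU μ hμ fun y hy => by
      rw [Groth.FunFld1.val_eq_exp_neg_ord _ hμ, ← div_apply h, ← hm, hj0 m.1 y hy, neg_zero, exp_zero]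
    exact ⟨Additive.ofMul v, Subtype.ext (hjD ((hg v).trans (by rw [hv, hm])))⟩
  have hθk : ∀ a, θ a = 0 → ∃ b, n • b = a := fun a ha => by
    have hdiv : FunFld.div k (gam U hU (a.toMul : (Γ((U : Scheme.{u}), ⊤) : Type u)ˣ)) = 0 := by
      rw [← hg, show g a.toMul = θ a from rfl, ha]; exact map_zero jD
    obtain ⟨c, hc⟩ := Groth.FunFld1.exists_eq_smul_of_div_eq (isFunctionField (k := k) h.dim)
      (a.toMul.isUnit.map (gam U hU)).ne_zero one_ne_zero fun P => by
        rw [← div_apply h, hdiv, Groth.FunFld1.ord_one]; rfl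
    rw [Algebra.smul_def, mul_one] at hc
    obtain ⟨e, he⟩ := IsAlgClosed.exists_pow_nat_eq c (Nat.pos_of_ne_zero hn0)
    have he0 : e ≠ 0 := by
      rintro rfl
      rw [zero_pow hn0] at he
      exact (a.toMul.isUnit.map (gam U hU)).ne_zero (by rw [hc, ← he, map_zero])
    refine ⟨Additive.ofMul (Units.map (consts (k := k) U).toMonoidHom (Units.mk0 e he0)), ?_⟩
    rw [← ofMul_pow, ← map_pow]
    refine Additive.toMul.injective (Units.ext (gam_injective U hU ?_))
    exact (gam_consts U hU _).trans (hc.trans (congrArg _ he.symm)).symm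
  -- the count
  have hcard := card_ker_mul_card_coker ψ (n := n) (fun m hm => by
    ext t
    have := congrArg (fun q : T →₀ ℤ => q t) hm
    simpa [hn0] using this) hsurj
  rw [← card_modN_eq_of_surjective θ hθ hθk, hC, card_tor_pic h hn, card_modN_finsupp,
    card_tor_congr ((QuotientAddGroup.quotientAddEquivOfEq hψΦ).trans
      (QuotientAddGroup.quotientKerEquivOfSurjective Φ hΦ)) n, Nat.card_congr E, ← pow_add] at hcard
  refine ⟨?_, fun c => ?_⟩
  · have hr : 1 ≤ Nat.card ↥((U : Set X)ᶜ) := by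
      haveI := hT.to_subtype
      haveI := hne.to_subtype
      exact Nat.card_pos
    rw [show 2 * Curv2.genus k X + Nat.card ↥((U : Set X)ᶜ) =
      2 * Curv2.genus k X + Nat.card ↥((U : Set X)ᶜ) - 1 + 1 by omega, pow_succ] at hcard
    exact Nat.eq_of_mul_eq_mul_right (Nat.pos_of_ne_zero hn0) hcard
  · obtain ⟨c', hc'⟩ := hΦ (Additive.ofMul c)
    obtain ⟨m, b, rfl⟩ := hsurj c'
    refine ⟨(Φ b).toMul, ?_⟩
    rw [map_add, show Φ (ψ m) = 0 from (SetLike.ext_iff.1 hψΦ (ψ m)).1 ⟨m, rfl⟩, zero_add,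
      map_nsmul] at hc'
    exact congrArg Additive.toMul hc'

end Count

end Groth.ModelsGraphs.OpenCurve
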